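import Cfsg.Agent.Mrg.Omega.KL.Q.Def
import Cfsg.Agent.Mrg.Omega.ML.Ex.TwoOdd
import Cfsg.Agent.Mrg.Omega.NO3S.EMany.LowExt
import Cfsg.Agent.Mrg.Omega.ML.Ex.KnownDone

-- merged: Cfsg.Agent.Mrg.Omega.KL.Q.OddG
section

/-!
# (Gq) of #22723 (1)-(4), the core: the machine of helper566 and `O(H) = 1` by the pairing (helper461)

* `Geo T X Y` : the geometric part of 49's `PreG` (no exact group);  `Geo.map`, `Geo.sub` : quotients by groups which
  centralise `M`, subgroups over `T`;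
* **`Geo.exists_sysT`** : `Geo`, an exact atom `A` with `A ≤ O₂(R)` for `T ≤ R < H`, `A ≰ O₂(H)` (`LB`), `H` moves `X` and
  every `v ∈ Y#`  ⟹  `SysT` for a section of `(H, M)`.
-/

set_option autoImplicit false

namespace Cfsg.Agent.Omega.KL.Q.OddG

open Subgroup Cfsg Cfsg.Agent.ZN Cfsg.Agent.ClassTwoFusion.Quad Cfsg.Agent.Omega.ML.MinFrame
open Cfsg.Agent.Omega.ML.Final
open Cfsg.Agent.Omega.KL.Q.Def (nrm mem_nrm)
open Cfsg.Agent.Omega.KL.Q.Tools Cfsg.Agent.Omega.KL.Q.Pre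
open Cfsg.Agent.Omega.KL.Quo (exists_minPar norm_lift)
open Cfsg.Agent.Omega.NO3S.EMany.Low
open Cfsg.Agent.Omega.ML.Ex.Two (SysT)
open Cfsg.Agent.MinSimple.MinParabolic (IsMinPar le_of_forall)

universe u v

/-- the geometric part of the input -/
structure Geo {H : Type u} [Group H] {M : Type v} [Group M] [MulDistribMulAction H M] (T : Subgroup H)
    (X Y : Subgroup M) : Prop where
  sq : ∀ m : M, m * m = 1
  two : IsPGroup 2 T
  syl : ¬ 2 ∣ T.index
  Y1 : Y ≠ ⊥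
  nX : normalizer (T : Set H) ≤ nrm H X
  nY : normalizer (T : Set H) ≤ nrm H Y
  tY : T ≤ fxr H Y
  sX : ∀ m ∈ X, m ≠ 1 → MulAction.stabilizer H m ≤ nrm H X
  sY : ∀ v ∈ Y, v ≠ 1 → MulAction.stabilizer H v ≤ nrm H Y
  u1 : ∀ P : Subgroup H, IsMinPar T P → ∀ m ∈ X, (∀ t ∈ T, t • m = m) → (∃ p ∈ P, p • m ≠ m) → P ≤ fxr H Y
  u2 : ∀ P : Subgroup H, IsMinPar T P → ¬ P ≤ nrm H X →
    ∃ V : Subgroup M, X ≤ V ∧ P ≤ nrm H V ∧ ∀ v ∈ V, ∀ w ∈ V, v ≠ 1 → w ≠ 1 → ∃ p ∈ P, p • v = w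
  ex : ∃ m ∈ X, m ≠ 1 ∧ ∀ t ∈ T, t • m = m
  pair : ∀ ζ ∈ normalizer (T : Set H), ∀ O : Set M, (∀ w ∈ O, ∃ g : H, ∃ m ∈ X, g • m = w) → Y ≤ closure O →
    (∀ t ∈ T, ∀ w ∈ O, (ζ * t * ζ⁻¹ * t⁻¹) • w = w) → ζ ∈ fxr H Y

namespace Geo

section map

variable {C : Type u} [Group C] [Finite C] {M : Type v} [Group M] [MulDistribMulAction C M]
  {H : Type u} [Group H] [MulDistribMulAction H M] {T : Subgroup C} {X Y : Subgroup M}
  {π : C →* H}

/-- quotients by a group which centralises `M` -/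
theorem map (hπ : Function.Surjective π) (he : ∀ (g : C) (v : M), π g • v = g • v) (h : Geo T X Y) :
    Geo (T.map π) X Y where
  sq := h.sq
  two := h.two.map π
  syl := fun h2 => h.syl (h2.trans (index_map_dvd T hπ))
  Y1 := h.Y1
  nX := by
    intro g hg
    obtain ⟨t, ht, n, hn, rfl⟩ := norm_lift π hπ h.two h.syl hg
    rw [← nrm_map hπ he]
    exact mem_map_of_mem π (mul_mem (h.nX (le_normalizer ht)) (h.nX hn))
  nY := by
    intro g hg
    obtain ⟨t, ht, n, hn, rfl⟩ := norm_lift π hπ h.two h.syl hg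
    rw [← nrm_map hπ he]
    exact mem_map_of_mem π (mul_mem (h.nY (le_normalizer ht)) (h.nY hn))
  tY := by
    rw [← fxr_map hπ he]
    exact map_mono h.tY
  sX := by
    intro m hm hm1 g hg
    obtain ⟨c, rfl⟩ := hπ g
    rw [← nrm_map hπ he]
    exact mem_map_of_mem π (h.sX m hm hm1 (by rw [MulAction.mem_stabilizer_iff] at hg ⊢; rwa [he] at hg))
  sY := by
    intro m hm hm1 g hg
    obtain ⟨c, rfl⟩ := hπ g
    rw [← nrm_map hπ he]
    exact mem_map_of_mem π (h.sY m hm hm1 (by rw [MulAction.mem_stabilizer_iff] at hg ⊢; rwa [he] at hg))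
  u1 := by
    intro P hP m hm htm hmv
    obtain ⟨R, hR, rfl⟩ := exists_minPar π hπ hP
    rw [← fxr_map hπ he]
    refine map_mono (h.u1 R hR m hm (fun t ht => by rw [← he]; exact htm _ (mem_map_of_mem π ht)) ?_)
    obtain ⟨_, ⟨r, hr, rfl⟩, hrm⟩ := hmv
    exact ⟨r, hr, by rwa [he] at hrm⟩
  u2 := by
    intro P hP hmv
    obtain ⟨R, hR, rfl⟩ := exists_minPar π hπ hP
    obtain ⟨V, h1, h2, h3⟩ := h.u2 R hR (fun h4 => hmv (by
      rw [← nrm_map hπ he]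
      exact map_mono h4))
    refine ⟨V, h1, ?_, ?_⟩
    · rw [← nrm_map hπ he]
      exact map_mono h2
    · intro v hv w hw hv1 hw1
      obtain ⟨p, hp, hpw⟩ := h3 v hv w hw hv1 hw1
      exact ⟨π p, mem_map_of_mem π hp, by rw [he]; exact hpw⟩
  ex := by
    obtain ⟨m, hm, hm1, htm⟩ := h.ex
    refine ⟨m, hm, hm1, ?_⟩
    rintro _ ⟨t, ht, rfl⟩
    rw [he, htm t ht]
  pair := pair_map hπ he h.two h.syl h.pair

end map

section sub

variable {C : Type u} [Group C] {M : Type v} [Group M] [MulDistribMulAction C M] {T : Subgroup C} {X Y : Subgroup M}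

theorem nrm_sub (R : Subgroup C) {g : R} : g ∈ nrm R X ↔ (g : C) ∈ nrm C X := Iff.rfl

theorem norm_sub {R : Subgroup C} (hTR : T ≤ R) {g : R} (hg : g ∈ normalizer (T.subgroupOf R : Set R)) :
    (g : C) ∈ normalizer (T : Set C) := by
  rw [mem_normalizer_iff] at hg ⊢
  intro t
  constructor
  · intro ht
    exact (hg ⟨t, hTR ht⟩).1 ht
  · intro ht
    have h1 : t ∈ R := by
      have h2 := R.mul_mem (R.mul_mem (R.inv_mem g.2) (hTR ht)) g.2
      have e : (g : C)⁻¹ * (g * t * (g : C)⁻¹) * g = t := by group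
      rwa [e] at h2
    exact (hg ⟨t, h1⟩).2 ht

/-- subgroups over `T` -/
theorem sub (h : Geo T X Y) {R : Subgroup C} (hTR : T ≤ R) : Geo (T.subgroupOf R) X Y where
  sq := h.sq
  two := h.two.comap_subtype
  syl := fun h2 => h.syl (h2.trans (relIndex_dvd_index_of_le hTR))
  Y1 := h.Y1
  nX := fun g hg => (nrm_sub R).2 (h.nX (norm_sub hTR hg))
  nY := fun g hg => (nrm_sub R).2 (h.nY (norm_sub hTR hg))
  tY := fun t ht m hm => h.tY (mem_subgroupOf.1 ht) m hm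
  sX := fun m hm hm1 g hg => (nrm_sub R).2 (h.sX m hm hm1 (by
    rw [MulAction.mem_stabilizer_iff] at hg ⊢; exact hg))
  sY := fun m hm hm1 g hg => (nrm_sub R).2 (h.sY m hm hm1 (by
    rw [MulAction.mem_stabilizer_iff] at hg ⊢; exact hg))
  u1 := by
    rintro P hP m hm htm ⟨p, hp, hpm⟩ q hq w hw
    exact h.u1 _ (KL.GenTool.minPar_map_subtype hTR hP) m hm (fun t ht => htm ⟨t, hTR ht⟩ (mem_subgroupOf.2 ht))
      ⟨p, ⟨p, hp, rfl⟩, hpm⟩ (x := (q : C)) ⟨q, hq, rfl⟩ w hw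
  u2 := by
    intro P hP hmv
    obtain ⟨V, h1, h2, h3⟩ := h.u2 _ (KL.GenTool.minPar_map_subtype hTR hP)
      (fun h4 => hmv fun p hp => (nrm_sub R).2 (h4 ⟨p, hp, rfl⟩))
    refine ⟨V, h1, fun p hp => (nrm_sub R).2 (h2 ⟨p, hp, rfl⟩), ?_⟩
    intro v hv w hw hv1 hw1
    obtain ⟨_, ⟨p, hp, rfl⟩, hpw⟩ := h3 v hv w hw hv1 hw1
    exact ⟨p, hp, hpw⟩
  ex := by
    obtain ⟨m, hm, hm1, htm⟩ := h.ex
    exact ⟨m, hm, hm1, fun t ht => htm _ (mem_subgroupOf.1 ht)⟩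
  pair := by
    intro ζ hζ O hO hY hc w hw
    refine h.pair ζ (norm_sub hTR hζ) O ?_ hY ?_ w hw
    · intro w hw
      obtain ⟨g, m, hm, hgm⟩ := hO w hw
      exact ⟨g, m, hm, hgm⟩
    · intro t ht w hw
      exact hc ⟨t, hTR ht⟩ (mem_subgroupOf.2 ht) w hw

end sub

/-! ### The core -/

variable {H : Type u} [Group H] [Finite H] {M : Type v} [Group M] [Finite M] [MulDistribMulAction H M]
  {T A : Subgroup H} {X Y : Subgroup M}

/-- **(1)-(4) of (Gq)** -/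
theorem exists_sysT (h : Geo T X Y) (lb : LB H M T A) (hM : MLK.{u, v}) (hX : ¬ (⊤ : Subgroup H) ≤ nrm H X)
    (hY : ∀ v ∈ Y, v ≠ 1 → ¬ ∀ g : H, g • v = v) :
    ∃ (H' : Type u) (_ : Group H') (_ : Finite H') (N : Type v) (_ : Group N) (_ : Finite N)
      (_ : MulDistribMulAction H' N) (T' A' : Subgroup H') (x' y' : N), SysT H' N T' A' x' y' := by
  -- a mover
  obtain ⟨P, hP, hPX⟩ : ∃ P : Subgroup H, IsMinPar T P ∧ ¬ P ≤ nrm H X := by
    by_contra hc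
    push Not at hc
    exact hX (le_of_forall (S := T) le_top (fun g hg => h.nX hg.2) fun P hP _ => hc P hP)
  obtain ⟨m, hm, hm1, tm⟩ := h.ex
  obtain ⟨p, hp, hpm⟩ : ∃ p ∈ P, p • m ≠ m := by
    by_contra hc
    push Not at hc
    exact hPX fun p hp => h.sX m hm hm1 (MulAction.mem_stabilizer_iff.2 (hc p hp))
  have hPY := h.u1 P hP m hm tm ⟨p, hp, hpm⟩
  obtain ⟨⟨w, hw⟩, hw1'⟩ := (Subgroup.ne_bot_iff_exists_ne_one).1 h.Y1
  have hw1 : w ≠ 1 := fun h1 => hw1' (Subtype.ext h1)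
  have tw : ∀ v ∈ Y, ∀ t ∈ T, t • v = v := fun v hv t ht => h.tY ht v hv
  have hmH : ¬ ∀ g : H, g • m = m := fun hc => hpm (hc p)
  obtain ⟨H', i1, i2, N, i3, i4, i5, π, f, A', x', y', o, hs⟩ := lb.exists_sysW hM tm (tw w hw) (hY w hw hw1)
    ⟨P, hP, ⟨p, hp, hpm⟩, fun q hq => hPY hq w hw⟩ (fun R hR => by
      by_cases h1 : ∃ r ∈ R, r • m ≠ m
      · exact ⟨w, hY w hw hw1, fun r hr => h.u1 R hR m hm tm h1 hr w hw⟩
      · push Not at h1
        exact ⟨m, hmH, h1⟩)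
  refine ⟨H', i1, i2, N, i3, i4, i5, T.map π, A', x', y', hs.sysT fun K hK hKo =>
    ML.Ex.TwoOdd.SysW.odd_of hs ?_ hK hKo⟩
  intro z hz _
  by_contra hz1
  -- the lift of `z`
  have hzT : z ∈ normalizer ((T.map π : Subgroup H') : Set H') := by
    rw [mem_normalizer_iff]
    intro t
    rw [← mem_center_iff.1 hz t, mul_inv_cancel_right]
  obtain ⟨t₀, ht₀, n₀, hn₀, rfl⟩ := norm_lift π o.πs h.two h.syl hzT
  set ζ := t₀ * n₀ with hζd
  have hζ : ζ ∈ normalizer (T : Set H) := mul_mem (le_normalizer ht₀) hn₀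
  -- `X ≤ U¹`
  obtain ⟨V, hXV, hPV, hVt⟩ := h.u2 P hP hPX
  have hVU : V ≤ cmm M A := by
    intro v hv
    by_cases hv1 : v = 1
    · rw [hv1]; exact one_mem _
    have he : (p • m) * m⁻¹ ∈ V := V.mul_mem (smul_mem (hPV hp) (hXV hm)) (V.inv_mem (hXV hm))
    have he1 : (p • m) * m⁻¹ ≠ 1 := fun h1 => hpm (mul_inv_eq_one.1 h1)
    obtain ⟨q, hq, rfl⟩ := hVt _ he _ hv he1 hv1
    exact smul_mem_cmm q (lb.orb_eq tm p)
  have hXU : X ≤ cmm M A := hXV.trans hVU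
  -- vectors of `X` centralised by `K₀`
  have hX0 : X ⊓ cv M (Km A : Set H) = ⊥ := by
    by_contra hne
    obtain ⟨m', hm', hm1', tm'⟩ := exists_fixed h.sq h.two hne (fun t ht x hx =>
      ⟨smul_mem (h.nX (le_normalizer ht)) hx.1, smul_mem_cvKm t hx.2⟩)
    exact hX fun g _ => h.sX m' hm'.1 hm1' (MulAction.mem_stabilizer_iff.2 (lb.fix_of_cvKm tm' hm'.2 g))
  -- the kernel fixes `X`
  have hkmod : ∀ (k : H) (u : M) (hu : u ∈ cmm M A), π k • f ⟨u, hu⟩ = f ⟨u, hu⟩ →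
      (k • u) * u⁻¹ ∈ cv M (Km A : Set H) := by
    intro k u hu hk
    rw [← o.eqv k ⟨u, hu⟩, ← mul_inv_eq_one, ← map_inv, ← map_mul, o.ker] at hk
    exact hk
  have hkerT : ∀ k : H, π k = 1 → ∀ m' ∈ X, (∀ t ∈ T, t • m' = m') → k • m' = m' := by
    intro k hk m' hm' tm'
    refine lb.fix_of_mod tm' (R := (T.map π).comap π) (le_comap_map π T) (I := cv M (Km A : Set H))
      (fun u hu tu g _ => lb.fix_of_cvKm tu hu g) ?_ k ?_
    · rintro g ⟨t, ht, htg⟩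
      refine hkmod g m' (hXU hm') ?_
      rw [← htg, ← o.eqv t ⟨m', hXU hm'⟩]
      exact congrArg f (Subtype.ext (tm' t ht))
    · change π k ∈ T.map π
      rw [hk]
      exact one_mem _
  have hker : ∀ k : H, π k = 1 → ∀ m' ∈ X, k • m' = m' := by
    intro k hk m' hm'
    have h1 : k ∈ nrm H X := h.sX m hm hm1 (MulAction.mem_stabilizer_iff.2 (hkerT k hk m hm tm))
    have h2 : (k • m') * m'⁻¹ ∈ X ⊓ cv M (Km A : Set H) :=
      ⟨X.mul_mem (smul_mem h1 hm') (X.inv_mem hm'), hkmod k m' (hXU hm') (by rw [hk, one_smul])⟩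
    rw [hX0, mem_bot, mul_inv_eq_one] at h2
    exact h2
  have hkerO : ∀ k : H, π k = 1 → ∀ g : H, ∀ m' ∈ X, k • g • m' = g • m' := by
    intro k hk g m' hm'
    have h1 : π (g⁻¹ * k * g) = 1 := by rw [map_mul, map_mul, hk, mul_one, ← map_mul, inv_mul_cancel, map_one]
    have h2 := hker _ h1 m' hm'
    rwa [mul_smul, mul_smul, inv_smul_eq_iff] at h2
  -- `ζ` fixes no vector of `Y#`
  have hζY : ∀ v ∈ Y, ζ • v = v → v = 1 := by
    intro v hv hζv
    by_contra hv1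
    obtain ⟨v', hv'U, hv'⟩ := lb.shift (tw v hv)
    have h1 : f ⟨v', hv'U⟩ ≠ 1 := by
      intro h1
      refine hY v hv hv1 fun g => (hv' g).1 ?_
      exact lb.fix_of_cvKm (fun t ht => (hv' t).2 (tw v hv t ht)) ((o.ker _).1 h1) g
    refine ML.Ex.TwoOdd.SysW.ne_of_center hs hz hz1 h1 ?_
    rw [← o.eqv ζ ⟨v', hv'U⟩]
    exact congrArg f (Subtype.ext ((hv' ζ).2 hζv))
  -- `Y ≤ U¹`
  have hcomm := Tools.comm_of_sq h.sq
  have hYU : Y ≤ cmm M A := by
    have hnY : ζ ∈ nrm H Y := h.nY hζ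
    let φ : Y → Y := fun v => ⟨(ζ • (v : M)) * (v : M)⁻¹, Y.mul_mem (smul_mem hnY v.2) (Y.inv_mem v.2)⟩
    have hφ : Function.Injective φ := by
      intro a b hab
      have h1 : (ζ • (a : M)) * (a : M)⁻¹ = (ζ • (b : M)) * (b : M)⁻¹ := congrArg Subtype.val hab
      have h2 : ζ • ((a : M) * (b : M)⁻¹) = (a : M) * (b : M)⁻¹ := by
        rw [smul_mul', smul_inv']
        calc ζ • (a : M) * (ζ • (b : M))⁻¹ = (ζ • (a : M)) * (a : M)⁻¹ * (a * (ζ • (b : M))⁻¹) := by group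
          _ = (ζ • (b : M)) * (b : M)⁻¹ * (a * (ζ • (b : M))⁻¹) := by rw [h1]
          _ = (ζ • (b : M)) * ((b : M)⁻¹ * a) * (ζ • (b : M))⁻¹ := by group
          _ = (b : M)⁻¹ * a := by rw [hcomm (ζ • (b : M)), mul_inv_cancel_right]
          _ = (a : M) * (b : M)⁻¹ := hcomm _ _
      have h3 := hζY _ (Y.mul_mem a.2 (Y.inv_mem b.2)) h2
      exact Subtype.ext (mul_inv_eq_one.1 h3)
    intro v hv
    obtain ⟨a, ha⟩ := Finite.surjective_of_injective hφ ⟨v, hv⟩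
    have h1 : (ζ • (a : M)) * (a : M)⁻¹ = v := congrArg Subtype.val ha
    rw [← h1]
    exact lb.orb_eq (tw a a.2) ζ
  -- the pairing
  have hfin : ζ ∈ fxr H Y := by
    refine h.pair ζ hζ {u | ∃ g : H, ∃ m' ∈ X, g • m' = u} (fun _ hu => hu) ?_ ?_
    · refine hYU.trans ((lb.cmm_le hM tm hmH).trans (orb_le fun g _ => subset_closure ⟨g, m, hm, rfl⟩))
    · rintro t ht _ ⟨g, m', hm', rfl⟩
      refine hkerO _ ?_ g m' hm'
      have h1 := mem_center_iff.1 hz (π t)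
      rw [map_mul, map_mul, map_mul, map_inv, map_inv, ← h1, mul_inv_cancel_right, mul_inv_cancel]
  exact hw1 (hζY w hw (hfin w hw))

end Geo

end Cfsg.Agent.Omega.KL.Q.OddG

end

-- merged: Cfsg.Agent.Mrg.Omega.KL.Q.EndG
section

/-!
# THEOREM KLQ (#22723 (Gq)): the input `PreG` is impossible (helper461)

* `PreG.geo`;
* `PreG.exists_sysT` : `PreG` gives `SysT` for a section of `(C, M)`;
* **`noPreG`** : `MLK` and `Ext` give `NoPreG`.
-/

set_option autoImplicit false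

namespace Cfsg.Agent.Omega.KL.Q.EndG

open Subgroup Cfsg Cfsg.Agent.ZN Cfsg.Agent.ClassTwoFusion.Quad Cfsg.Agent.Omega.ML.MinFrame
open Cfsg.Agent.Omega.ML.Final
open Cfsg.Agent.Omega.KL.Q.Def (nrm mem_nrm)
open Cfsg.Agent.Omega.KL.Q.DefG (PreG NoPreG)
open Cfsg.Agent.Omega.KL.Q.Tools Cfsg.Agent.Omega.KL.Q.Pre Cfsg.Agent.Omega.KL.Q.OddG
open Cfsg.Agent.Omega.NO3S.EMany.Low (LB)
open Cfsg.Agent.Omega.ML.Ex.Two (SysT Ext)
open Cfsg.Agent.MinSimple.VModule (o2_isPGroup o2_le le_o2 le_normalizer_o2 o2_le_of_sylow)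

universe u v

/-- `A ≤ O₂(Stab m)` if `A ≤ O₂(R)`, `A` fixes `m` and `Stab m ≤ R` -/
theorem le_o2_stab {H : Type u} [Group H] {M : Type v} [Group M] [MulDistribMulAction H M] {A R : Subgroup H} {m : M}
    (hA : A ≤ o2 R) (hm : A ≤ MulAction.stabilizer H m) (hR : MulAction.stabilizer H m ≤ R) :
    A ≤ o2 (MulAction.stabilizer H m) := by
  have h2 : o2 R ⊓ MulAction.stabilizer H m ≤ o2 (MulAction.stabilizer H m) := by
    refine le_o2 inf_le_right ((o2_isPGroup _).to_le inf_le_left) ?_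
    intro g hg
    have h3 := le_normalizer_o2 _ (hR hg)
    rw [mem_normalizer_iff] at h3 ⊢
    intro k
    constructor
    · rintro ⟨hk1, hk2⟩
      exact ⟨(h3 k).1 hk1, Subgroup.mul_mem _ (Subgroup.mul_mem _ hg hk2) (Subgroup.inv_mem _ hg)⟩
    · rintro ⟨hk1, hk2⟩
      refine ⟨(h3 k).2 hk1, ?_⟩
      have := Subgroup.mul_mem _ (Subgroup.mul_mem _ (Subgroup.inv_mem _ hg) hk2) hg
      have e : g⁻¹ * (g * k * g⁻¹) * g = k := by group
      rwa [e] at this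
  exact (le_inf hA hm).trans h2

/-- `O₂(R) ∩ H ≤ O₂(H)` for `H ≤ R` -/
theorem o2_inf_le {X : Type u} [Group X] {H R : Subgroup X} (hHR : H ≤ R) : o2 R ⊓ H ≤ o2 H :=
  KL.GenTool.o2_inf_le le_rfl (fun _ hg _ hx => H.mul_mem (H.mul_mem hg hx) (H.inv_mem hg)) hHR

/-- **the restriction of an exact atom to a minimal `H` with `F ≰ O₂(H)`** -/
theorem lb_of_min {X : Type u} [Group X] [Finite X] {M : Type v} [Group M] [MulDistribMulAction X M] {T F H : Subgroup X}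
    (sq : ∀ m : M, m * m = 1) (two : IsPGroup 2 T) (syl : ¬ 2 ∣ T.index) (hFT : F ≤ T)
    (el : ∀ a ∈ F, a * a = 1) (exact' : (cv M (F : Set X)).index = Nat.card F)
    (atom : ∀ C : Subgroup X, C ≤ F → C ≠ ⊥ → C ≠ F → Nat.card C < (cv M (C : Set X)).index)
    (KH : IsKGroup X) (hTH : T ≤ H) (hFH : ¬ F ≤ o2 H)
    (hmin : ∀ R : Subgroup X, (T ≤ R ∧ ¬ F ≤ o2 R) → R ≤ H → R = H) :
    LB H M (T.subgroupOf H) (F.subgroupOf H) := by
  have hFH' : F ≤ H := hFT.trans hTH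
  have e1 : ∀ {C : Subgroup X}, C ≤ H → (C.subgroupOf H).map H.subtype = C := fun {C} hC => by
    rw [subgroupOf_map_subtype, inf_eq_left.2 hC]
  have hcv : ∀ C : Subgroup H, cv M (C : Set H) = cv M ((C.map H.subtype : Subgroup X) : Set X) := by
    intro C
    ext m
    constructor
    · rintro hm _ ⟨c, hc, rfl⟩
      exact hm c hc
    · exact fun hm c hc => hm _ ⟨c, hc, rfl⟩
  have hcard : ∀ C : Subgroup H, Nat.card (C.map H.subtype) = Nat.card C := fun C =>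
    card_map_of_injective H.subtype_injective
  refine ⟨sq, two.comap_subtype, fun h2 => ?_, fun x hx => hFT hx, fun b hb => Subtype.ext (el b hb), ?_, ?_, ?_, ?_,
    sec_KG.sub X KH H⟩
  · exact syl (h2.trans (relIndex_dvd_index_of_le hTH))
  · rw [hcv, e1 hFH', exact', ← hcard, e1 hFH']
  · intro C hC hC1 hCF
    rw [hcv, ← hcard]
    refine atom _ ?_ ?_ ?_
    · rintro _ ⟨c, hc, rfl⟩
      exact hC hc
    · intro h1
      exact hC1 ((Subgroup.map_eq_bot_iff_of_injective _ H.subtype_injective).1 h1)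
    · intro h1
      apply hCF
      rw [← h1]
      exact (comap_map_eq_self_of_injective H.subtype_injective C).symm
  · intro R hTR hR
    have h1 : R.map H.subtype ≠ H := by
      intro h2
      apply hR
      rw [eq_top_iff]
      intro r _
      have h3 : (r : X) ∈ R.map H.subtype := by
        rw [h2]
        exact r.2
      obtain ⟨s, hs, hsr⟩ := h3
      rwa [← (Subtype.ext hsr : s = r)]
    have h2 : T ≤ R.map H.subtype := fun t ht => ⟨⟨t, hTH ht⟩, hTR ht, rfl⟩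
    have h3 : F ≤ o2 (R.map H.subtype) := by
      by_contra hc
      exact h1 (hmin _ ⟨h2, hc⟩ (map_subtype_le R))
    exact fun x hx => KL.GenTool.o2_subgroupOf_le R (h3 hx)
  · intro hc
    apply hFH
    have h1 := (map_mono (f := H.subtype) hc).trans (KL.GenTool.o2_map_le H.subtype ⊤)
    rw [e1 hFH', ← MonoidHom.range_eq_map, H.range_subtype] at h1
    exact h1

section

variable {C : Type u} [Group C] {M : Type v} [Group M] [MulDistribMulAction C M] {T A : Subgroup C} {X Y : Subgroup M}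

theorem geo (h : PreG T A X Y) : Geo T X Y where
  sq := h.sq
  two := h.two
  syl := h.syl
  Y1 := by
    intro h1
    have h2 := h.Y4
    rw [h1, card_bot] at h2
    omega
  nX := h.nX
  nY := h.nY
  tY := h.tY
  sX := h.sX
  sY := h.sY
  u1 := h.u1
  u2 := fun P hP hPX => by
    obtain ⟨-, V, h1, h2, -, h3⟩ := h.u2 P hP hPX
    exact ⟨V, h1, h2, h3⟩
  ex := h.ex
  pair := h.pair

variable [Finite C] [Finite M]

/-- **`PreG` gives `SysT`** -/
theorem exists_sysT (hML : MLK.{u, v}) (h : PreG T A X Y) :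
    ∃ (H' : Type u) (_ : Group H') (_ : Finite H') (N : Type v) (_ : Group N) (_ : Finite N)
      (_ : MulDistribMulAction H' N) (T' A' : Subgroup H') (x' y' : N), SysT H' N T' A' x' y' := by
  have htriv : ∀ k ∈ fxr C (⊤ : Subgroup M), ∀ m : M, k • m = m := fun k hk m => hk m (mem_top m)
  have hN : (fxr C (⊤ : Subgroup M)).Normal := fxr_normal fun _ _ _ => mem_top _
  set N := fxr C (⊤ : Subgroup M) with hNdef
  let _ : MulDistribMulAction (C ⧸ N) M := quoAct N htriv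
  let π : C →* C ⧸ N := QuotientGroup.mk' N
  have hπ : Function.Surjective π := QuotientGroup.mk'_surjective N
  have he : ∀ (g : C) (v : M), π g • v = g • v := fun _ _ => rfl
  have hker2 : ∀ k : C, π k = 1 → ∀ v : M, k • v = v := fun k hk v =>
    (QuotientGroup.eq_one_iff k).1 hk v (mem_top v)
  have g := (geo h).map hπ he
  have hfaith : ∀ g : C ⧸ N, (∀ m : M, g • m = m) → g = 1 := by
    intro g hg
    obtain ⟨c, rfl⟩ := hπ g
    exact (QuotientGroup.eq_one_iff c).2 fun v _ => hg v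
  have hKH : IsKGroup (C ⧸ N) := ML.Final.sec_KG.quo C h.KC N
  have ho2 : ∀ S : Subgroup C, A ≤ o2 S → A.map π ≤ o2 (S.map π) := fun S hS =>
    (map_mono hS).trans (le_o2 (map_mono (o2_le _)) ((o2_isPGroup _).map π)
      ((map_mono (le_normalizer_o2 _)).trans (le_normalizer_map π)))
  have hx : A.map π ≤ o2 (nrm (C ⧸ N) X) := by
    rw [← nrm_map hπ he]
    exact ho2 _ h.Ax
  have hy : A.map π ≤ o2 (nrm (C ⧸ N) Y) := by
    rw [← nrm_map hπ he]
    exact ho2 _ h.Ay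
  have hel : ∀ a ∈ A.map π, a * a = 1 := by
    rintro _ ⟨a, ha, rfl⟩
    rw [← map_mul, h.el a ha, map_one]
  have hAT : A.map π ≤ T.map π :=
    hx.trans (o2_le_of_sylow g.two fun h2 => g.syl (h2.trans (relIndex_dvd_index_of_le (le_normalizer.trans g.nX))))
  obtain ⟨x, hxX, hx1, tx⟩ := g.ex
  have tY : ∀ v ∈ Y, ∀ t ∈ T.map π, t • v = v := fun v hv t ht => g.tY ht v hv
  have hAx : A.map π ≤ o2 (MulAction.stabilizer (C ⧸ N) x) :=
    le_o2_stab hx (fun a ha => MulAction.mem_stabilizer_iff.2 (tx a (hAT ha))) (g.sX x hxX hx1)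
  have hAy : ∀ y ∈ Y, y ≠ 1 → A.map π ≤ o2 (MulAction.stabilizer (C ⧸ N) y) := fun y hyY hy1 =>
    le_o2_stab hy (fun a ha => MulAction.mem_stabilizer_iff.2 (tY y hyY a (hAT ha))) (g.sY y hyY hy1)
  -- `M = ⟨x^C⟩⟨Y^C⟩`
  have hgen : orb (⊤ : Subgroup (C ⧸ N)) x ⊔ (⨆ y : Y, orb (⊤ : Subgroup (C ⧸ N)) (y : M)) = ⊤ := by
    refine h.gen x hxX hx1 (fun t ht => by rw [← he]; exact tx _ (mem_map_of_mem π ht)) _
      (le_sup_left (a := orb (⊤ : Subgroup (C ⧸ N)) x) (mem_orb_self _ x)) ?_ ?_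
    · intro v hv
      exact mem_sup_right (le_iSup (fun y : Y => orb (⊤ : Subgroup (C ⧸ N)) (y : M)) ⟨v, hv⟩ (mem_orb_self _ v))
    · intro c u hu
      have h1 : orb (⊤ : Subgroup (C ⧸ N)) x ⊔ (⨆ y : Y, orb (⊤ : Subgroup (C ⧸ N)) (y : M)) ≤
          (orb (⊤ : Subgroup (C ⧸ N)) x ⊔ (⨆ y : Y, orb (⊤ : Subgroup (C ⧸ N)) (y : M))).comap
            (MulDistribMulAction.toMonoidHom M c) := by
        refine sup_le ?_ (iSup_le fun y => ?_)
        · intro w hw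
          exact mem_sup_left (smul_mem_orb (g := π c) (mem_top _) hw)
        · intro w hw
          exact mem_sup_right (le_iSup (fun y : Y => orb (⊤ : Subgroup (C ⧸ N)) (y : M)) y
            (smul_mem_orb (g := π c) (mem_top _) hw))
      exact h1 hu
  -- (NO)
  have hfx : fxr (C ⧸ N) (⊤ : Subgroup M) = ⊥ := by
    rw [Subgroup.eq_bot_iff_forall]
    exact fun g hg => hfaith g fun m => hg m (mem_top m)
  have hno : ∀ B : Subgroup (C ⧸ N), B ≤ A.map π → Nat.card B ≤ (cv M (B : Set (C ⧸ N))).index := by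
    intro B hB
    have key := NoFam.no_X_Y hML hKH g.sq g.two g.syl hgen tx g.tY (fun b hb => hel b (hB hb)) (hB.trans hAx)
      fun y hyY hy1 => hB.trans (hAy y hyY hy1)
    rwa [hfx, relIndex_bot_left] at key
  -- `A` is exact
  have hcv : cv M (A.map π : Set (C ⧸ N)) = cv M (A : Set C) := by
    ext v
    constructor
    · exact fun hv a ha => hv _ ⟨a, ha, rfl⟩
    · rintro hv _ ⟨a, ha, rfl⟩
      exact hv a ha
  have hcard : Nat.card (A.map π) = N.relIndex A := by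
    rw [← relIndex_bot_left, ← relIndex_comap, MonoidHom.comap_bot, QuotientGroup.ker_mk']
  have hex : (cv M (A.map π : Set (C ⧸ N))).index = Nat.card (A.map π) := by
    refine le_antisymm ?_ (hno _ le_rfl)
    rw [hcv, hcard]
    exact h.le
  have hA1 : A.map π ≠ ⊥ := by
    intro h1
    obtain ⟨a, ha, m, ham⟩ := h.mv
    apply ham
    refine hker2 a ?_ m
    rw [← mem_bot, ← h1]
    exact ⟨a, ha, rfl⟩
  -- an atom
  obtain ⟨B, ⟨hBA, hB1, hBe⟩, hmin⟩ : ∃ B : Subgroup (C ⧸ N), (B ≤ A.map π ∧ B ≠ ⊥ ∧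
      (cv M (B : Set (C ⧸ N))).index = Nat.card B) ∧ ∀ B' : Subgroup (C ⧸ N), (B' ≤ A.map π ∧ B' ≠ ⊥ ∧
      (cv M (B' : Set (C ⧸ N))).index = Nat.card B') → B' ≤ B → B' = B := by
    obtain ⟨B, hB⟩ := (Set.toFinite {B : Subgroup (C ⧸ N) | B ≤ A.map π ∧ B ≠ ⊥ ∧
      (cv M (B : Set (C ⧸ N))).index = Nat.card B}).exists_minimal ⟨A.map π, le_rfl, hA1, hex⟩
    exact ⟨B, hB.prop, fun B' hB' hle => le_antisymm hle (hB.le_of_le hB' hle)⟩
  have hatom : ∀ B' : Subgroup (C ⧸ N), B' ≤ B → B' ≠ ⊥ → B' ≠ B →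
      Nat.card B' < (cv M (B' : Set (C ⧸ N))).index := by
    intro B' hB' hB1' hne
    refine lt_of_le_of_ne (hno B' (hB'.trans hBA)) fun h1 => hne ?_
    exact hmin B' ⟨hB'.trans hBA, hB1', h1.symm⟩ hB'
  -- `B ≰ O₂(C)`
  have hnT : ¬ B ≤ o2 (⊤ : Subgroup (C ⧸ N)) := by
    intro hc
    apply hB1
    rw [eq_bot_iff]
    intro b hb
    refine mem_bot.2 (hfaith b fun m => ?_)
    have h1 : (⊤ : Subgroup M) ≤ cv M ({b} : Set (C ⧸ N)) := by
      rw [← hgen]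
      refine sup_le ?_ (iSup_le fun y => ?_)
      · exact fun m hm => mem_cv_singleton.2 (Gen.o2_top_le g.two g.syl tx (hc hb) m hm)
      · exact fun m hm => mem_cv_singleton.2 (Gen.o2_top_le g.two g.syl (tY y y.2) (hc hb) m hm)
    exact mem_cv_singleton.1 (h1 (mem_top m))
  -- `H` minimal
  obtain ⟨H, ⟨hTH, hFH⟩, hminH⟩ : ∃ H : Subgroup (C ⧸ N), (T.map π ≤ H ∧ ¬ B ≤ o2 H) ∧
      ∀ R : Subgroup (C ⧸ N), (T.map π ≤ R ∧ ¬ B ≤ o2 R) → R ≤ H → R = H := by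
    have hfin : {H : Subgroup (C ⧸ N) | T.map π ≤ H ∧ ¬ B ≤ o2 H}.Finite := Set.toFinite _
    obtain ⟨K, hK⟩ := hfin.exists_minimal ⟨⊤, le_top, hnT⟩
    exact ⟨K, hK.1, fun D hD hDK => le_antisymm hDK (hK.2 hD hDK)⟩
  have hBT := hBA.trans hAT
  have lb := lb_of_min g.sq g.two g.syl hBT (fun a ha => hel a (hBA ha)) hBe hatom hKH hTH hFH hminH
  have hBH : B ≤ H := hBT.trans hTH
  refine (g.sub hTH).exists_sysT lb hML ?_ ?_
  · intro hc
    apply hFH
    have h1 : H ≤ nrm (C ⧸ N) X := fun g hg => hc (mem_top (⟨g, hg⟩ : H))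
    exact (le_inf (hBA.trans hx) hBH).trans (o2_inf_le h1)
  · intro v hv hv1 hc
    apply hFH
    have h1 : H ≤ nrm (C ⧸ N) Y := fun g' hg => g.sY v hv hv1 (MulAction.mem_stabilizer_iff.2 (hc ⟨g', hg⟩))
    exact (le_inf (hBA.trans hy) hBH).trans (o2_inf_le h1)

end

/-- **THEOREM KLQ** -/
theorem noPreG (hML : MLK.{u, v}) (hE : Ext.{u, v}) : NoPreG.{u, v} := by
  intro C _ _ M _ _ _ T A X Y h
  obtain ⟨H, _, _, N, _, _, _, T', A', x', y', hs⟩ := exists_sysT hML h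
  exact hE H N T' A' x' y' hs

end Cfsg.Agent.Omega.KL.Q.EndG

end
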